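import Groth.Prelude.Def_EGA41
import Groth.Agent.Ega41.PBasisGen
import Mathlib.LinearAlgebra.Finsupp.LinearCombination

/-!
# `p`-independence and `p`-generation when all `p`-th powers come from the base; towers
-/

set_option autoImplicit false
universe u

namespace Groth.Agent.Ega41.K98.PBasisTower

open Finsupp

variable {p : ℕ} {A B : Type u} [CommRing A] [CommRing B] [Algebra A B]

/-- If all `p`-th powers of `B` come from `A`, then so do all elements of `A[B^p]`. -/
lemma exists_of_mem (hpow : ∀ b : B, b ^ p ∈ Set.range (algebraMap A B)) {b : B}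
    (hb : b ∈ EGA41.pPowerSubalgebra p A B) : ∃ a, algebraMap A B a = b := by
  have h : EGA41.pPowerSubalgebra p A B ≤ ⊥ := by
    refine Algebra.adjoin_le ?_
    rintro _ ⟨b, rfl⟩
    exact Algebra.mem_bot.mpr (hpow b)
  exact Algebra.mem_bot.mp (h hb)

/-- the reduced exponents -/
abbrev RedExp (p : ℕ) (ι : Type u) : Type u := {e : ι →₀ ℕ // ∀ i, e i < p}

/-- the reduced monomials -/
noncomputable abbrev mons (p : ℕ) {ι : Type u} (x : ι → B) : RedExp p ι → B :=
  fun e => EGA41.pMonomial x e.1

lemma surj_base (hpow : ∀ b : B, b ^ p ∈ Set.range (algebraMap A B)) :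
    Function.Surjective (algebraMap A (EGA41.pPowerSubalgebra p A B)) := by
  intro s
  obtain ⟨a, ha⟩ := exists_of_mem hpow s.2
  exact ⟨a, Subtype.ext ha⟩

lemma linearCombination_mapRange {E : Type*} (v : E → B) (g : E →₀ A) :
    linearCombination (EGA41.pPowerSubalgebra p A B) v
      (g.mapRange (algebraMap A (EGA41.pPowerSubalgebra p A B)) (map_zero _)) =
      linearCombination A v g := by
  rw [linearCombination_apply, linearCombination_apply, Finsupp.sum_mapRange_index]
  · refine Finsupp.sum_congr fun e _ => ?_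
    rw [Algebra.smul_def, Algebra.smul_def]
    rfl
  · intro e
    rw [zero_smul]

theorem isPIndependent_iff (hpow : ∀ b : B, b ^ p ∈ Set.range (algebraMap A B)) {ι : Type u}
    (x : ι → B) : EGA41.IsPIndependent p A x ↔
      ∀ g : RedExp p ι →₀ A, linearCombination A (mons p x) g = 0 → ∀ e, algebraMap A B (g e) = 0 := by
  unfold EGA41.IsPIndependent
  rw [linearIndependent_iff]
  constructor
  · intro h g hg e
    have h1 := h (g.mapRange (algebraMap A (EGA41.pPowerSubalgebra p A B)) (map_zero _))
      (by rw [linearCombination_mapRange]; exact hg)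
    have h2 := DFunLike.congr_fun h1 e
    rw [mapRange_apply, Finsupp.zero_apply] at h2
    exact congrArg Subtype.val h2
  · intro h s hs
    obtain ⟨g, rfl⟩ := Finsupp.mapRange_surjective (algebraMap A (EGA41.pPowerSubalgebra p A B))
      (map_zero _) (surj_base hpow) s
    rw [linearCombination_mapRange] at hs
    ext e
    exact h g hs e

theorem isPGenerating_iff (hpow : ∀ b : B, b ^ p ∈ Set.range (algebraMap A B)) {ι : Type u}
    (x : ι → B) : EGA41.IsPGenerating p A x ↔
      Function.Surjective (linearCombination A (mons p x)) := by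
  unfold EGA41.IsPGenerating
  rw [eq_top_iff]
  constructor
  · intro h b
    have h1 := h (Submodule.mem_top (x := b))
    rw [Finsupp.mem_span_range_iff_exists_finsupp] at h1
    obtain ⟨s, hs⟩ := h1
    obtain ⟨g, rfl⟩ := Finsupp.mapRange_surjective (algebraMap A (EGA41.pPowerSubalgebra p A B))
      (map_zero _) (surj_base hpow) s
    refine ⟨g, ?_⟩
    rw [← linearCombination_mapRange (p := p), linearCombination_apply]
    exact hs
  · intro h b _
    obtain ⟨g, hg⟩ := h b
    rw [Finsupp.mem_span_range_iff_exists_finsupp]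
    refine ⟨g.mapRange (algebraMap A (EGA41.pPowerSubalgebra p A B)) (map_zero _), ?_⟩
    rw [← hg, ← linearCombination_mapRange (p := p), linearCombination_apply]

/-- Splitting a reduced exponent on a sum type. -/
noncomputable def splitExp (p : ℕ) (ι κ : Type u) : RedExp p (ι ⊕ κ) ≃ RedExp p κ × RedExp p ι where
  toFun e := (⟨(sumFinsuppEquivProdFinsupp e.1).2, fun i => e.2 (Sum.inr i)⟩,
    ⟨(sumFinsuppEquivProdFinsupp e.1).1, fun i => e.2 (Sum.inl i)⟩)
  invFun q := ⟨sumFinsuppEquivProdFinsupp.symm (q.2.1, q.1.1), by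
    rintro (i | i)
    · exact q.2.2 i
    · exact q.1.2 i⟩
  left_inv e := Subtype.ext (sumFinsuppEquivProdFinsupp.symm_apply_apply e.1)
  right_inv q := by
    ext i
    · exact congrFun (congrArg (fun z => (z.2 : κ → ℕ)) (sumFinsuppEquivProdFinsupp.apply_symm_apply (q.2.1, q.1.1))) i
    · exact congrFun (congrArg (fun z => (z.1 : ι → ℕ)) (sumFinsuppEquivProdFinsupp.apply_symm_apply (q.2.1, q.1.1))) i

variable {C : Type u} [CommRing C] [Algebra A C] [Algebra C B] [IsScalarTower A C B]

lemma pMonomial_sumElim {ι κ : Type u} (x : ι → C) (y : κ → B) (q : RedExp p κ × RedExp p ι) :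
    EGA41.pMonomial (Sum.elim (fun i => algebraMap C B (x i)) y) ((splitExp p ι κ).symm q).1 =
      EGA41.pMonomial x q.2.1 • EGA41.pMonomial y q.1.1 := by
  change EGA41.pMonomial _ (Finsupp.sumElim q.2.1 q.1.1) = _
  rw [EGA41.pMonomial, Finsupp.prod_sumElim, Algebra.smul_def, EGA41.pMonomial, EGA41.pMonomial,
    Finsupp.prod, Finsupp.prod, Finsupp.prod, map_prod]
  simp [Finsupp.prod]

/-- The linear combinations of the monomials of the joint family. -/
lemma linearCombination_sumElim {ι κ : Type u} (x : ι → C) (y : κ → B)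
    (g : RedExp p (ι ⊕ κ) →₀ A) :
    linearCombination A (mons p (Sum.elim (fun i => algebraMap C B (x i)) y)) g =
      linearCombination C (mons p y)
        ((curryLinearEquiv A (Finsupp.domLCongr (R := A) (M := A) (splitExp p ι κ) g)).mapRange
          (linearCombination A (mons p x)) (map_zero _)) := by
  have h1 := LinearMap.congr_fun (linearCombination_smul (R := A) (S := C) (v := mons p y)
    (w := mons p x)) (Finsupp.domLCongr (R := A) (M := A) (splitExp p ι κ) g)
  refine Eq.trans ?_ h1
  change _ = linearCombination A _ (Finsupp.equivMapDomain (splitExp p ι κ) g)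
  rw [Finsupp.linearCombination_equivMapDomain]
  congr 2
  ext e
  change EGA41.pMonomial _ _ = EGA41.pMonomial _ _ • EGA41.pMonomial _ _
  rw [← pMonomial_sumElim, Equiv.symm_apply_apply]

theorem isPIndependent_tower (hinj : Function.Injective (algebraMap C B))
    (hpow : ∀ b : B, b ^ p ∈ Set.range (algebraMap A B)) {ι κ : Type u} (x : ι → C) (y : κ → B)
    (hx : EGA41.IsPBasis p A x) :
    EGA41.IsPIndependent p C y ↔
      EGA41.IsPIndependent p A (Sum.elim (fun i => algebraMap C B (x i)) y) := by
  have hpowC : ∀ b : B, b ^ p ∈ Set.range (algebraMap C B) := fun b => by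
    obtain ⟨a, ha⟩ := hpow b
    exact ⟨algebraMap A C a, by rw [← IsScalarTower.algebraMap_apply, ha]⟩
  have hpow' : ∀ c : C, c ^ p ∈ Set.range (algebraMap A C) := fun c => by
    obtain ⟨a, ha⟩ := hpow (algebraMap C B c)
    refine ⟨a, hinj ?_⟩
    rw [← IsScalarTower.algebraMap_apply, ha, map_pow]
  have hxi := (isPIndependent_iff hpow' x).mp hx.1
  have hxg := (isPGenerating_iff hpow' x).mp hx.2
  rw [isPIndependent_iff hpowC, isPIndependent_iff hpow]
  constructor
  · intro h g hg e
    rw [linearCombination_sumElim] at hg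
    have h1 := h _ hg (splitExp p ι κ e).1
    rw [mapRange_apply, map_eq_zero_iff _ hinj] at h1
    have h2 := hxi _ h1 (splitExp p ι κ e).2
    rw [IsScalarTower.algebraMap_apply A C B]
    have h3 : (curryLinearEquiv A (Finsupp.domLCongr (R := A) (M := A) (splitExp p ι κ) g)) (splitExp p ι κ e).1
        (splitExp p ι κ e).2 = g e := by
      change (Finsupp.domLCongr (R := A) (M := A) (splitExp p ι κ) g) ((splitExp p ι κ) e) = g e
      rw [Finsupp.domLCongr_apply, Finsupp.domCongr_apply, Finsupp.equivMapDomain_apply,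
        Equiv.symm_apply_apply]
    rw [h3] at h2
    rw [h2, map_zero]
  · intro h g hg e
    obtain ⟨H, rfl⟩ := Finsupp.mapRange_surjective (linearCombination A (mons p x))
      (map_zero _) hxg g
    let G : RedExp p (ι ⊕ κ) →₀ A :=
      (Finsupp.domLCongr (R := A) (M := A) (splitExp p ι κ)).symm ((curryLinearEquiv A).symm H)
    have hG : (curryLinearEquiv A (Finsupp.domLCongr (R := A) (M := A) (splitExp p ι κ) G)) = H := by
      rw [LinearEquiv.apply_symm_apply, LinearEquiv.apply_symm_apply]
    have h1 := h G (by rw [linearCombination_sumElim, hG]; exact hg)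
    rw [mapRange_apply]
    suffices h4 : linearCombination A (mons p x) (H e) = 0 by rw [h4, map_zero]
    rw [linearCombination_apply, Finsupp.sum]
    refine Finset.sum_eq_zero fun d _ => ?_
    have h5 := h1 ((splitExp p ι κ).symm (e, d))
    have h6 : G ((splitExp p ι κ).symm (e, d)) = H e d := by
      conv_rhs => rw [← hG]
      change _ = (Finsupp.domLCongr (R := A) (M := A) (splitExp p ι κ) G) (e, d)
      rw [Finsupp.domLCongr_apply, Finsupp.domCongr_apply, Finsupp.equivMapDomain_apply]
    rw [h6, IsScalarTower.algebraMap_apply A C B, map_eq_zero_iff _ hinj] at h5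
    rw [Algebra.smul_def, h5, zero_mul]

theorem isPGenerating_tower (hinj : Function.Injective (algebraMap C B))
    (hpow : ∀ b : B, b ^ p ∈ Set.range (algebraMap A B)) {ι κ : Type u} (x : ι → C) (y : κ → B)
    (hx : EGA41.IsPGenerating p A x) (hy : EGA41.IsPGenerating p C y) :
      EGA41.IsPGenerating p A (Sum.elim (fun i => algebraMap C B (x i)) y) := by
  have hpowC : ∀ b : B, b ^ p ∈ Set.range (algebraMap C B) := fun b => by
    obtain ⟨a, ha⟩ := hpow b
    exact ⟨algebraMap A C a, by rw [← IsScalarTower.algebraMap_apply, ha]⟩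
  have hpow' : ∀ c : C, c ^ p ∈ Set.range (algebraMap A C) := fun c => by
    obtain ⟨a, ha⟩ := hpow (algebraMap C B c)
    refine ⟨a, hinj ?_⟩
    rw [← IsScalarTower.algebraMap_apply, ha, map_pow]
  rw [isPGenerating_iff hpow'] at hx
  rw [isPGenerating_iff hpowC] at hy
  rw [isPGenerating_iff hpow]
  intro b
  obtain ⟨g, rfl⟩ := hy b
  obtain ⟨H, rfl⟩ := Finsupp.mapRange_surjective (linearCombination A (mons p x))
      (map_zero _) hx g
  refine ⟨(Finsupp.domLCongr (R := A) (M := A) (splitExp p ι κ)).symm ((curryLinearEquiv A).symm H), ?_⟩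
  rw [linearCombination_sumElim, LinearEquiv.apply_symm_apply, LinearEquiv.apply_symm_apply]

end Groth.Agent.Ega41.K98.PBasisTower
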