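import Groth.Prelude.Def_EGA41
import Groth.Agent.Ega41.PBasisGen
import Groth.Agent.Ega41.K98.PBasisTower
import Mathlib.Algebra.CharP.Frobenius
import Mathlib.Algebra.CharP.Lemmas
import Mathlib.LinearAlgebra.Finsupp.SumProd
import Mathlib.RingTheory.Nilpotent.Basic

/-!
# A basis of the imperfection module from `p`-bases
-/

set_option autoImplicit false
set_option linter.unusedSectionVars false
universe u v

namespace Groth.Agent.Ega41.K98.ImpBasis

open TensorProduct Finsupp Groth.Agent.Ega41.K98.PBasisTower

/-- A basis of the kernel of a linear map killing part of a basis and injective on the rest. -/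
theorem exists_ker_basis {B V W : Type*} [CommRing B] [AddCommGroup V] [Module B V] [AddCommGroup W]
    [Module B W] {Λ M : Type*} (b : Module.Basis (Λ ⊕ M) B V) (f : V →ₗ[B] W)
    (h1 : ∀ l, f (b (Sum.inl l)) = 0) (h2 : LinearIndependent B (fun m => f (b (Sum.inr m)))) :
    ∃ c : Module.Basis Λ B (LinearMap.ker f), ∀ l, (c l : V) = b (Sum.inl l) := by
  let v : Λ → LinearMap.ker f := fun l => ⟨b (Sum.inl l), h1 l⟩
  have hli : LinearIndependent B v := by
    apply LinearIndependent.of_comp (LinearMap.ker f).subtype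
    exact b.linearIndependent.comp Sum.inl Sum.inl_injective
  have hsp : ⊤ ≤ Submodule.span B (Set.range v) := by
    rintro ⟨z, hz⟩ -
    have h3 : z = linearCombination B (fun l => b (Sum.inl l)) ((sumFinsuppEquivProdFinsupp (b.repr z)).1) +
        linearCombination B (fun m => b (Sum.inr m)) ((sumFinsuppEquivProdFinsupp (b.repr z)).2) := by
      conv_lhs => rw [← b.linearCombination_repr z,
        ← sumFinsuppEquivProdFinsupp.symm_apply_apply (b.repr z)]
      rw [sumFinsuppEquivProdFinsupp_symm_apply, linearCombination_apply, Finsupp.sum_sumElim]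
      rfl
    have h4 : linearCombination B (fun m => f (b (Sum.inr m))) ((sumFinsuppEquivProdFinsupp (b.repr z)).2) = 0 := by
      rw [LinearMap.mem_ker, h3, map_add] at hz
      have h5 : f (linearCombination B (fun l => b (Sum.inl l)) ((sumFinsuppEquivProdFinsupp (b.repr z)).1)) = 0 := by
        rw [Finsupp.apply_linearCombination, linearCombination_apply]
        refine Finset.sum_eq_zero fun l _ => ?_
        simp [h1]
      rw [h5, zero_add, Finsupp.apply_linearCombination] at hz
      exact hz
    have h6 := (linearIndependent_iff.mp h2) _ h4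
    rw [h6, map_zero, add_zero] at h3
    have h7 : (⟨z, hz⟩ : LinearMap.ker f) = linearCombination B v ((sumFinsuppEquivProdFinsupp (b.repr z)).1) := by
      apply Subtype.ext
      have h8 := Finsupp.apply_linearCombination B (LinearMap.ker f).subtype v
        ((sumFinsuppEquivProdFinsupp (b.repr z)).1)
      rw [Submodule.subtype_apply] at h8
      rw [h8]
      exact h3
    rw [h7, Finsupp.mem_span_range_iff_exists_finsupp]
    exact ⟨_, rfl⟩
  exact ⟨Module.Basis.mk hli hsp, fun l => by rw [Module.Basis.mk_apply]⟩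

section Base

variable (p : ℕ) [Fact p.Prime] {A : Type u} [CommRing A]

/-- the subring of `p`-th powers -/
abbrev powRing (A : Type u) [CommRing A] [CharP A p] : Subring A := (frobenius A p).range

/-- The differentials over `ℤ` and over the `p`-th powers agree. -/
theorem map_bijective [CharP A p] :
    Function.Bijective (KaehlerDifferential.map ℤ (powRing p A) A A) := by
  have hp0 : (p : A) = 0 := CharP.cast_eq_zero A p
  refine ⟨?_, KaehlerDifferential.map_surjective ℤ (powRing p A) A⟩
  rw [← LinearMap.ker_eq_bot, ← KaehlerDifferential.range_mapBaseChange, LinearMap.range_eq_bot]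
  apply LinearMap.ext
  intro z
  rw [LinearMap.zero_apply]
  induction z using TensorProduct.induction_on with
  | zero => simp
  | add x y hx hy => rw [map_add, hx, hy, add_zero]
  | tmul r s =>
    have h1 : LinearMap.ker (KaehlerDifferential.map ℤ ℤ (powRing p A) A) = ⊤ := by
      rw [eq_top_iff, ← KaehlerDifferential.span_range_derivation ℤ (powRing p A), Submodule.span_le]
      rintro _ ⟨⟨_, ⟨a, rfl⟩⟩, rfl⟩
      rw [SetLike.mem_coe, LinearMap.mem_ker, KaehlerDifferential.map_D]
      change KaehlerDifferential.D ℤ A (a ^ p) = 0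
      rw [Derivation.leibniz_pow, ← Nat.cast_smul_eq_nsmul A, hp0, zero_smul]
    rw [KaehlerDifferential.mapBaseChange_tmul, LinearMap.ker_eq_top.mp h1, LinearMap.zero_apply, smul_zero]

end Base

section Main

variable (p : ℕ) [Fact p.Prime] {R A B : Type u} [CommRing R] [CommRing A]
    [CommRing B] [IsReduced B] [Algebra R A] [Algebra A B] [Algebra R B] [IsScalarTower R A B] [CharP B p]
    [CharP A p]
    (hinj : Function.Injective (algebraMap A B)) (hpow : ∀ b : B, b ^ p ∈ Set.range (algebraMap A B))
    (hR : Set.range (algebraMap R B) = Set.range fun b : B => b ^ p)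

include hinj hR in
lemma pow_mem_range (a : A) : a ^ p ∈ Set.range (algebraMap R A) := by
  have h1 : (algebraMap A B a) ^ p ∈ Set.range (algebraMap R B) := by rw [hR]; exact ⟨_, rfl⟩
  obtain ⟨r, hr⟩ := h1
  refine ⟨r, hinj ?_⟩
  rw [← IsScalarTower.algebraMap_apply, hr, map_pow]

include hinj hR in
lemma powRing_le : powRing p A ≤ (algebraMap R A).range := by
  rintro _ ⟨a, rfl⟩
  exact pow_mem_range p hinj hR a

include hinj hR in
lemma mem_range_of_eq_pow {a : A} {b : B} (h : algebraMap A B a = b ^ p) :
    a ∈ (algebraMap R A).range := by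
  have h1 : b ^ p ∈ Set.range (algebraMap R B) := by rw [hR]; exact ⟨_, rfl⟩
  obtain ⟨r, hr⟩ := h1
  refine ⟨r, hinj ?_⟩
  rw [← IsScalarTower.algebraMap_apply, hr, h]

/-- The basic identity: the Frobenius of a linear combination. -/
lemma key_identity {C : Type u} [CommRing C] [Algebra (powRing p A) C] [Algebra C B]
    [IsScalarTower (powRing p A) C B] {Λ : Type u} (x : Λ → B) (x' : Λ → C)
    (hx' : ∀ i, algebraMap C B (x' i) = x i ^ p)
    (hC : ∀ a : powRing p A, algebraMap (powRing p A) B a = algebraMap A B a)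
    (h : RedExp p Λ →₀ A) :
    algebraMap C B (linearCombination (powRing p A) (mons p x')
      (h.mapRange (frobenius A p).rangeRestrict (map_zero _))) =
      (linearCombination A (mons p x) h) ^ p := by
  rw [linearCombination_apply, linearCombination_apply, Finsupp.sum_mapRange_index]
  · rw [← frobenius_def p (Finsupp.sum _ _), map_finsuppSum, map_finsuppSum]
    refine Finsupp.sum_congr fun e _ => ?_
    rw [frobenius_def, Algebra.smul_def, Algebra.smul_def, map_mul, mul_pow,
      ← IsScalarTower.algebraMap_apply, hC]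
    congr 1
    · change algebraMap A B (frobenius A p (h e)) = _
      rw [frobenius_def, map_pow]
    · simp only [mons, EGA41.pMonomial, Finsupp.prod]
      rw [map_prod, ← Finset.prod_pow]
      refine Finset.prod_congr rfl fun i _ => ?_
      rw [map_pow, hx', ← pow_mul, ← pow_mul, mul_comm]
  · intro e
    rw [zero_smul]

include hinj hpow hR in
/-- A `p`-basis of `A` over `ℤ` (over the `p`-th powers), and the `p`-basis of `B` over `R`. -/
theorem exists_bases {Λ M : Type u} (x : Λ → B) (hx : EGA41.IsPBasis p A x) (x' : Λ → A)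
    (hx' : ∀ i, algebraMap A B (x' i) = x i ^ p) (y : M → A) (hy : EGA41.IsPBasis p R y) :
    EGA41.IsPBasis p (powRing p A) (Sum.elim x' y) ∧
      EGA41.IsPBasis p R (Sum.elim (fun i => algebraMap A B (y i)) x) := by
  have hpR : ∀ b : B, b ^ p ∈ Set.range (algebraMap R B) := fun b => by rw [hR]; exact ⟨b, rfl⟩
  have hpRA : ∀ a : A, a ^ p ∈ Set.range (algebraMap R A) := pow_mem_range p hinj hR
  refine ⟨?_, (isPIndependent_tower hinj hpR y x hy).mp hx.1,
    isPGenerating_tower hinj hpR y x hy.2 hx.2⟩
  let S : Subring A := (algebraMap R A).range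
  let algS : Algebra (powRing p A) S := (Subring.inclusion (powRing_le p hinj hR)).toAlgebra
  have tow1 : IsScalarTower (powRing p A) S A := IsScalarTower.of_algebraMap_eq fun _ => rfl
  have tow2 : IsScalarTower (powRing p A) S B := IsScalarTower.of_algebraMap_eq fun _ => rfl
  have hSA : Function.Injective (algebraMap S A) := Subtype.val_injective
  have hSB : Function.Injective (algebraMap S B) := fun a b h => hSA (hinj h)
  have hpowA : ∀ a : A, a ^ p ∈ Set.range (algebraMap (powRing p A) A) := fun a =>
    ⟨⟨a ^ p, ⟨a, rfl⟩⟩, rfl⟩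
  have hpowS : ∀ a : S, a ^ p ∈ Set.range (algebraMap (powRing p A) S) := fun a =>
    ⟨⟨(a : A) ^ p, ⟨a, rfl⟩⟩, Subtype.ext rfl⟩
  have hpowSA : ∀ a : A, a ^ p ∈ Set.range (algebraMap S A) := fun a =>
    ⟨⟨a ^ p, hpRA a⟩, rfl⟩
  -- the family `x'` in `S`
  let x'' : Λ → S := fun i => ⟨x' i, mem_range_of_eq_pow p hinj hR (hx' i)⟩
  have hx'' : ∀ i, algebraMap S B (x'' i) = x i ^ p := hx'
  have hC : ∀ a : powRing p A, algebraMap (powRing p A) B a = algebraMap A B a := fun _ => rfl
  have hxi := (isPIndependent_iff hpow x).mp hx.1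
  have hxg := (isPGenerating_iff hpow x).mp hx.2
  have hφ : Function.Surjective (frobenius A p).rangeRestrict := RingHom.rangeRestrict_surjective _
  have h1 : EGA41.IsPBasis p (powRing p A) x'' := by
    constructor
    · rw [isPIndependent_iff hpowS]
      intro g hg e
      obtain ⟨h, rfl⟩ := Finsupp.mapRange_surjective _ (map_zero _) hφ g
      have h2 := key_identity p x x'' hx'' hC h
      rw [hg, map_zero] at h2
      have h3 := hxi h (pow_eq_zero_iff (Fact.out : p.Prime).ne_zero |>.mp h2.symm) e
      have h4 : h e = 0 := hinj (by rw [h3, map_zero])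
      rw [mapRange_apply, h4, map_zero, map_zero]
    · rw [isPGenerating_iff hpowS]
      rintro ⟨a, r, rfl⟩
      have h2 : algebraMap R B r ∈ Set.range fun b : B => b ^ p := by rw [← hR]; exact ⟨r, rfl⟩
      obtain ⟨b, hb⟩ := h2
      obtain ⟨h, rfl⟩ := hxg b
      refine ⟨h.mapRange (frobenius A p).rangeRestrict (map_zero _), hSB ?_⟩
      rw [key_identity p x x'' hx'' hC h]
      refine hb.trans ?_
      rw [IsScalarTower.algebraMap_apply R A B]
      rfl
  have hyi := (isPIndependent_iff hpRA y).mp hy.1
  have hyg := (isPGenerating_iff hpRA y).mp hy.2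
  have hlc : ∀ g : RedExp p M →₀ R, linearCombination S (mons p y)
      (g.mapRange (algebraMap R A).rangeRestrict (map_zero _)) = linearCombination R (mons p y) g := by
    intro g
    rw [linearCombination_apply, linearCombination_apply, Finsupp.sum_mapRange_index]
    · refine Finsupp.sum_congr fun e _ => ?_
      rw [Algebra.smul_def, Algebra.smul_def]
      rfl
    · intro e
      rw [zero_smul]
  have h2 : EGA41.IsPBasis p S y := by
    constructor
    · rw [isPIndependent_iff hpowSA]
      intro g hg e
      obtain ⟨h, rfl⟩ := Finsupp.mapRange_surjective _ (map_zero _)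
        (RingHom.rangeRestrict_surjective (algebraMap R A)) g
      rw [hlc] at hg
      exact hyi h hg e
    · rw [isPGenerating_iff hpowSA]
      intro a
      obtain ⟨g, rfl⟩ := hyg a
      exact ⟨_, hlc g⟩
  exact ⟨(isPIndependent_tower hSA hpowA x'' y h1).mp h2.1,
    isPGenerating_tower hSA hpowA x'' y h1.2 h2.2⟩

include hinj hpow hR in
/-- The basis of the imperfection module. -/
theorem main {Λ M : Type u} (x : Λ → B) (hx : EGA41.IsPBasis p A x) (x' : Λ → A)
    (hx' : ∀ i, algebraMap A B (x' i) = x i ^ p) (y : M → A) (hy : EGA41.IsPBasis p R y) :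
    ∃ b : Module.Basis Λ B (EGA41.imperfection ℤ A B),
      ∀ i, (b i : B ⊗[A] Ω[A⁄ℤ]) = (1 : B) ⊗ₜ[A] KaehlerDifferential.D ℤ A (x' i) := by
  obtain ⟨h1, h2⟩ := exists_bases p hinj hpow hR x hx x' hx' y hy
  have hpA : (p : A) = 0 := CharP.cast_eq_zero A p
  have hpB : (p : B) = 0 := CharP.cast_eq_zero B p
  obtain ⟨b, hb⟩ := PBasisGen.exists_basis_of_isPBasis p hpA _ h1
  obtain ⟨c, hc⟩ := PBasisGen.exists_basis_of_isPBasis p hpB _ h2
  let e : Ω[A⁄ℤ] ≃ₗ[A] Ω[A⁄(powRing p A)] := LinearEquiv.ofBijective _ (map_bijective p (A := A))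
  have he : ∀ a, e (KaehlerDifferential.D ℤ A a) = KaehlerDifferential.D (powRing p A) A a := fun a =>
    KaehlerDifferential.map_D ℤ (powRing p A) A A a
  let b₁ : Module.Basis (Λ ⊕ M) A (Ω[A⁄ℤ]) := b.map e.symm
  have hb₁ : ∀ i, b₁ i = KaehlerDifferential.D ℤ A (Sum.elim x' y i) := by
    intro i
    rw [Module.Basis.map_apply, LinearEquiv.symm_apply_eq, he, hb]
  let b₂ : Module.Basis (Λ ⊕ M) B (B ⊗[A] Ω[A⁄ℤ]) := b₁.baseChange B
  have hb₂ : ∀ i, b₂ i = (1 : B) ⊗ₜ[A] KaehlerDifferential.D ℤ A (Sum.elim x' y i) := by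
    intro i
    rw [Module.Basis.baseChange_apply, hb₁]
  have hf : ∀ i, KaehlerDifferential.mapBaseChange ℤ A B (b₂ i) =
      KaehlerDifferential.D ℤ B (algebraMap A B (Sum.elim x' y i)) := by
    intro i
    rw [hb₂, KaehlerDifferential.mapBaseChange_tmul, one_smul, KaehlerDifferential.map_D]
  obtain ⟨d, hd⟩ := exists_ker_basis b₂ (KaehlerDifferential.mapBaseChange ℤ A B) (fun l => by
      rw [hf, Sum.elim_inl, hx', Derivation.leibniz_pow, ← Nat.cast_smul_eq_nsmul B, hpB, zero_smul])
    (by
      apply LinearIndependent.of_comp (KaehlerDifferential.map ℤ R B B)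
      have h3 := c.linearIndependent.comp Sum.inl Sum.inl_injective
      convert h3 using 2 with m
      funext m
      simp only [Function.comp_apply]
      rw [hf, KaehlerDifferential.map_D, hc]
      rfl)
  exact ⟨d, fun i => (hd i).trans (hb₂ (Sum.inl i))⟩

end Main

end Groth.Agent.Ega41.K98.ImpBasis
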