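import Groth.Prelude.Def_EGA41
import Mathlib.RingTheory.Kaehler.Basic

/-!
# Imperfection modules in towers: the map of imperfection modules when the base grows is surjective
(the base ring in an arbitrary universe), and its consequences for ranks.
-/

set_option autoImplicit false
universe u v

namespace Groth.Agent.Ega41.K98.ImpSurj

theorem kaehler_induction {R S : Type*} [CommRing R] [CommRing S] [Algebra R S]
    {P : Ω[S⁄R] → Prop} (hD : ∀ s : S, P (KaehlerDifferential.D R S s)) (h0 : P 0)
    (hadd : ∀ x y, P x → P y → P (x + y)) (hsmul : ∀ (s : S) x, P x → P (s • x))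
    (x : Ω[S⁄R]) : P x := by
  have hx : x ∈ Submodule.span S (Set.range (KaehlerDifferential.D R S)) := by
    rw [KaehlerDifferential.span_range_derivation]; trivial
  induction hx using Submodule.span_induction with
  | mem x h => obtain ⟨s, rfl⟩ := h; exact hD s
  | zero => exact h0
  | add x y _ _ hx hy => exact hadd x y hx hy
  | smul s x _ hx => exact hsmul s x hx

open TensorProduct in
/-- The natural map `C ⊗[A] Ω[A⁄Λ] → C ⊗[B] Ω[B⁄Λ]`. -/
noncomputable def phi (Λ : Type v) (A B C : Type u) [CommRing Λ] [CommRing A] [CommRing B] [CommRing C]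
    [Algebra Λ A] [Algebra Λ B] [Algebra Λ C] [Algebra A B] [Algebra A C] [Algebra B C]
    [IsScalarTower Λ A B] [IsScalarTower Λ A C] [IsScalarTower Λ B C] [IsScalarTower A B C] :
    C ⊗[A] (Ω[A⁄Λ]) →ₗ[A] C ⊗[B] (Ω[B⁄Λ]) :=
  TensorProduct.lift
    { toFun := fun c =>
        { toFun := fun x => c ⊗ₜ[B] (KaehlerDifferential.map Λ Λ A B x)
          map_add' := fun x y => by rw [map_add, TensorProduct.tmul_add]
          map_smul' := fun a x => by
            rw [RingHom.id_apply, map_smul, ← algebraMap_smul B a, TensorProduct.tmul_smul,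
              algebraMap_smul] }
      map_add' := fun c d => by
        ext x
        exact TensorProduct.add_tmul _ _ _
      map_smul' := fun a c => by
        ext x
        exact (TensorProduct.smul_tmul' _ _ _).symm }

open TensorProduct in
theorem phi_tmul (Λ : Type v) (A B C : Type u) [CommRing Λ] [CommRing A] [CommRing B] [CommRing C]
    [Algebra Λ A] [Algebra Λ B] [Algebra Λ C] [Algebra A B] [Algebra A C] [Algebra B C]
    [IsScalarTower Λ A B] [IsScalarTower Λ A C] [IsScalarTower Λ B C] [IsScalarTower A B C]
    (c : C) (x : Ω[A⁄Λ]) :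
    phi Λ A B C (c ⊗ₜ[A] x) = c ⊗ₜ[B] (KaehlerDifferential.map Λ Λ A B x) := rfl

open TensorProduct in
/-- Let Λ → A → B → C be ring homomorphisms. The homomorphism Ω_{B/Λ} ⊗_B C → Ω_{B/A} ⊗_B C maps the
imperfection module Υ_{C/B/Λ} (the kernel of Ω_{B/Λ} ⊗_B C → Ω_{C/Λ}) onto the imperfection module
Υ_{C/B/A} (the kernel of Ω_{B/A} ⊗_B C → Ω_{C/A}): every element of Υ_{C/B/A} is the image of some
element of Υ_{C/B/Λ}. -/
theorem exists_imperfection_lift (Λ : Type v) (A B C : Type u) [CommRing Λ] [CommRing A] [CommRing B] [CommRing C]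
    [Algebra Λ A] [Algebra Λ B] [Algebra Λ C] [Algebra A B] [Algebra A C] [Algebra B C]
    [IsScalarTower Λ A B] [IsScalarTower Λ A C] [IsScalarTower Λ B C] [IsScalarTower A B C] :
    ∀ ω ∈ EGA41.imperfection A B C, ∃ η ∈ EGA41.imperfection Λ B C,
      (KaehlerDifferential.map Λ A B B).baseChange C η = ω := by
  intro ω hω
  have hsurj : Function.Surjective ((KaehlerDifferential.map Λ A B B).baseChange C) :=
    LinearMap.lTensor_surjective C (KaehlerDifferential.map_surjective Λ A B)
  obtain ⟨η₀, hη₀⟩ := hsurj ω
  have hcomm : ∀ y : C ⊗[B] (Ω[B⁄Λ]),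
      KaehlerDifferential.map Λ A C C (KaehlerDifferential.mapBaseChange Λ B C y) =
        KaehlerDifferential.mapBaseChange A B C
          ((KaehlerDifferential.map Λ A B B).baseChange C y) := by
    intro y
    induction y with
    | zero => simp only [map_zero]
    | add x y hx hy => simp only [map_add, hx, hy]
    | tmul c x =>
      rw [LinearMap.baseChange_tmul, KaehlerDifferential.mapBaseChange_tmul,
        KaehlerDifferential.mapBaseChange_tmul, map_smul]
      congr 1
      induction x using kaehler_induction with
      | hD b => simp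
      | h0 => simp
      | hadd x y hx hy => simp only [map_add, hx, hy]
      | hsmul b x hx =>
        simp only [map_smul, ← hx]
        rw [← algebraMap_smul C b, map_smul, algebraMap_smul]
  have h1 : KaehlerDifferential.map Λ A C C (KaehlerDifferential.mapBaseChange Λ B C η₀) = 0 := by
    rw [hcomm, hη₀]
    exact hω
  obtain ⟨ξ, hξ⟩ := (KaehlerDifferential.exact_mapBaseChange_map Λ A C _).1 h1
  have hA : ∀ z : C ⊗[A] (Ω[A⁄Λ]), KaehlerDifferential.mapBaseChange Λ B C (phi Λ A B C z) =
      KaehlerDifferential.mapBaseChange Λ A C z := by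
    intro z
    induction z with
    | zero => simp only [map_zero]
    | add x y hx hy => simp only [map_add, hx, hy]
    | tmul c x =>
      rw [phi_tmul, KaehlerDifferential.mapBaseChange_tmul,
        KaehlerDifferential.mapBaseChange_tmul]
      congr 1
      induction x using kaehler_induction with
      | hD b => simp [← IsScalarTower.algebraMap_apply]
      | h0 => simp
      | hadd x y hx hy => simp only [map_add, hx, hy]
      | hsmul b x hx =>
        have e1 : KaehlerDifferential.map Λ Λ A B (b • x) = b • KaehlerDifferential.map Λ Λ A B x :=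
          map_smul _ _ _
        have e2 : KaehlerDifferential.map Λ Λ A C (b • x) = b • KaehlerDifferential.map Λ Λ A C x :=
          map_smul _ _ _
        rw [e1, e2, ← hx, ← algebraMap_smul B b, map_smul, algebraMap_smul]
  have hB : ∀ z : C ⊗[A] (Ω[A⁄Λ]), (KaehlerDifferential.map Λ A B B).baseChange C (phi Λ A B C z) = 0 := by
    intro z
    induction z with
    | zero => simp only [map_zero]
    | add x y hx hy => simp only [map_add, hx, hy, add_zero]
    | tmul c x =>
      rw [phi_tmul, LinearMap.baseChange_tmul]
      have : KaehlerDifferential.map Λ A B B (KaehlerDifferential.map Λ Λ A B x) = 0 := by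
        induction x using kaehler_induction with
        | hD b => simp
        | h0 => simp
        | hadd x y hx hy => simp only [map_add, hx, hy, add_zero]
        | hsmul b x hx =>
          rw [map_smul, ← algebraMap_smul B b, map_smul, hx, smul_zero]
      rw [this, TensorProduct.tmul_zero]
  refine ⟨η₀ - phi Λ A B C ξ, ?_, ?_⟩
  · change KaehlerDifferential.mapBaseChange Λ B C (η₀ - phi Λ A B C ξ) = 0
    rw [map_sub, hA, hξ, sub_self]
  · rw [map_sub, hB, sub_zero, hη₀]

/-- The surjective map of imperfection modules `Υ_{C/B/Λ} → Υ_{C/B/A}`. -/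
theorem exists_surjective (Λ : Type v) (A B C : Type u) [CommRing Λ] [CommRing A] [CommRing B]
    [CommRing C] [Algebra Λ A] [Algebra Λ B] [Algebra Λ C] [Algebra A B] [Algebra A C] [Algebra B C]
    [IsScalarTower Λ A B] [IsScalarTower Λ A C] [IsScalarTower Λ B C] [IsScalarTower A B C] :
    ∃ g : EGA41.imperfection Λ B C →ₗ[C] EGA41.imperfection A B C, Function.Surjective g := by
  have hcomm : ∀ y : TensorProduct B C (Ω[B⁄Λ]),
      KaehlerDifferential.map Λ A C C (KaehlerDifferential.mapBaseChange Λ B C y) =
        KaehlerDifferential.mapBaseChange A B C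
          ((KaehlerDifferential.map Λ A B B).baseChange C y) := by
    intro y
    induction y using TensorProduct.induction_on with
    | zero => simp only [map_zero]
    | add x y hx hy => simp only [map_add, hx, hy]
    | tmul c x =>
      rw [LinearMap.baseChange_tmul, KaehlerDifferential.mapBaseChange_tmul,
        KaehlerDifferential.mapBaseChange_tmul, map_smul]
      congr 1
      induction x using kaehler_induction with
      | hD b => simp
      | h0 => simp
      | hadd x y hx hy => simp only [map_add, hx, hy]
      | hsmul b x hx =>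
        simp only [map_smul, ← hx]
        rw [← algebraMap_smul C b, map_smul, algebraMap_smul]
  refine ⟨((KaehlerDifferential.map Λ A B B).baseChange C).restrict (fun y hy => ?_), ?_⟩
  · change KaehlerDifferential.mapBaseChange A B C _ = 0
    rw [← hcomm]
    have h1 : KaehlerDifferential.mapBaseChange Λ B C y = 0 := hy
    rw [h1, map_zero]
  · rintro ⟨ω, hω⟩
    obtain ⟨η, hη, h⟩ := exists_imperfection_lift Λ A B C ω hω
    exact ⟨⟨η, hη⟩, Subtype.ext h⟩

end Groth.Agent.Ega41.K98.ImpSurj
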