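import Mathlib.Algebra.Module.Projective
import Mathlib.Algebra.Module.LocalizedModule.Basic
import Mathlib.LinearAlgebra.Finsupp.Supported
import Mathlib.RingTheory.Finiteness.Basic
import Mathlib.RingTheory.Flat.FaithfullyFlat.Basic
import Mathlib.LinearAlgebra.TensorProduct.RightExactness
import Mathlib.LinearAlgebra.Finsupp.LinearCombination

/-!
# Left invertibility of a homomorphism from a finitely generated module to a projective module

For `u : M → N` with `M` finitely generated and `N` projective, `splitIdeal u` is the ideal of all `s`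
such that `s • id` factors through `u`.  Left invertibility of `u` after localization or after a flat
base change is detected by this ideal.
-/

set_option autoImplicit false
universe u v

namespace Groth.Agent.Ega41.K98.SplitLoc

open TensorProduct

variable {A : Type u} [CommRing A] {M N : Type v} [AddCommGroup M] [Module A M]
    [AddCommGroup N] [Module A N] (u : M →ₗ[A] N)

/-- The ideal of all `s` such that `s • id` factors through `u`. -/
def splitIdeal : Ideal A where
  carrier := {s | ∃ w : N →ₗ[A] M, w ∘ₗ u = s • LinearMap.id}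
  zero_mem' := ⟨0, by simp⟩
  add_mem' := by
    rintro s t ⟨w, hw⟩ ⟨w', hw'⟩
    exact ⟨w + w', by rw [LinearMap.add_comp, hw, hw', add_smul]⟩
  smul_mem' := by
    rintro c s ⟨w, hw⟩
    exact ⟨c • w, by rw [LinearMap.smul_comp, hw, smul_smul, smul_eq_mul]⟩

lemma mem_splitIdeal {s : A} : s ∈ splitIdeal u ↔ ∃ w : N →ₗ[A] M, w ∘ₗ u = s • LinearMap.id :=
  Iff.rfl

lemma one_mem_iff : splitIdeal u = ⊤ ↔ ∃ w : N →ₗ[A] M, w ∘ₗ u = LinearMap.id := by
  rw [Ideal.eq_top_iff_one, mem_splitIdeal, one_smul]

/-- A homomorphism from a finitely generated module to a projective module factors up to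
a retraction through a finite free module. -/
theorem exists_factor [Module.Finite A M] [Module.Projective A N] :
    ∃ (ι : Type v) (_ : Fintype ι) (a : N →ₗ[A] (ι → A)) (b : (ι → A) →ₗ[A] N), b ∘ₗ a ∘ₗ u = u := by
  classical
  obtain ⟨s, hs⟩ := Module.projective_def'.mp ‹Module.Projective A N›
  obtain ⟨G, hG⟩ := Module.Finite.fg_top (R := A) (M := M)
  let J : Finset N := G.biUnion fun m => (s (u m)).support
  have hJ : ∀ m, s (u m) ∈ Finsupp.supported A A (J : Set N) := by
    intro m
    have hm : m ∈ Submodule.span A (G : Set M) := by rw [hG]; trivial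
    have hle : Submodule.span A (G : Set M) ≤ (Finsupp.supported A A (J : Set N)).comap (s ∘ₗ u) := by
      rw [Submodule.span_le]
      intro x hx
      rw [SetLike.mem_coe, Submodule.mem_comap, Finsupp.mem_supported]
      intro y hy
      exact Finset.mem_coe.mpr (Finset.mem_biUnion.mpr ⟨x, hx, hy⟩)
    exact hle hm
  let π : (N →₀ A) →ₗ[A] (J → A) := LinearMap.pi fun j => Finsupp.lapply (j : N)
  let b : (J → A) →ₗ[A] N := Fintype.linearCombination A (fun j : J => (j : N))
  refine ⟨J, inferInstance, π ∘ₗ s, b, ?_⟩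
  ext m
  have h1 : (Finsupp.linearCombination A id) (s (u m)) = u m := LinearMap.congr_fun hs (u m)
  change b (π (s (u m))) = u m
  refine Eq.trans ?_ h1
  rw [Fintype.linearCombination_apply, Finsupp.linearCombination_apply,
    Finsupp.sum_of_support_subset _ (Finset.coe_subset.mp ((Finsupp.mem_supported _ _).mp (hJ m)))]
  · exact Finset.sum_coe_sort J (fun i => (s (u m)) i • id i)
  · intro i _
    rw [zero_smul]

/-- The criterion for localizations. -/
theorem localized_iff [Module.Finite A M] [Module.Projective A N] (S : Submonoid A) :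
    (∃ w : LocalizedModule S N →ₗ[A] LocalizedModule S M,
      w ∘ₗ (LocalizedModule.map S u).restrictScalars A = LinearMap.id) ↔
      ∃ s ∈ S, s ∈ splitIdeal u := by
  classical
  constructor
  · rintro ⟨w, hw⟩
    obtain ⟨ι, _, a, b, hab⟩ := exists_factor u
    have hmk : ∀ x : LocalizedModule S M, ∃ (n : M) (s : S), (s : A) • x = LocalizedModule.mkLinearMap S M n := by
      intro x
      obtain ⟨⟨n, s⟩, h⟩ := IsLocalizedModule.surj S (LocalizedModule.mkLinearMap S M) x
      exact ⟨n, s, h⟩
    let g : (ι → A) →ₗ[A] LocalizedModule S M := w ∘ₗ LocalizedModule.mkLinearMap S N ∘ₗ b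
    choose n t ht using fun j : ι => hmk (g (Pi.single j 1))
    let s : A := ∏ j, (t j : A)
    have hsS : s ∈ S := prod_mem fun j _ => (t j).2
    let w₀ : (ι → A) →ₗ[A] M := Fintype.linearCombination A
      (fun j => (∏ i ∈ Finset.univ.erase j, (t i : A)) • n j)
    have hw₀ : ∀ y, LocalizedModule.mkLinearMap S M (w₀ y) = s • g y := by
      have h1 : (LocalizedModule.mkLinearMap S M) ∘ₗ w₀ = s • g := by
        apply LinearMap.pi_ext'
        intro j
        ext
        simp only [LinearMap.comp_apply, LinearMap.smul_apply, LinearMap.coe_single]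
        rw [Fintype.linearCombination_apply_single, one_smul, map_smul, ← ht, smul_smul,
          Finset.prod_erase_mul _ _ (Finset.mem_univ j)]
      intro y
      exact LinearMap.congr_fun h1 y
    have hkey : ∀ m : M, ∃ c : S, (c : A) • (w₀ (a (u m)) - s • m) = 0 := by
      intro m
      have h2 : LocalizedModule.mkLinearMap S M (w₀ (a (u m))) =
          LocalizedModule.mkLinearMap S M (s • m) := by
        rw [hw₀, map_smul]
        congr 1
        have h3 : b (a (u m)) = u m := LinearMap.congr_fun hab m
        change w (LocalizedModule.mkLinearMap S N (b (a (u m)))) = _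
        rw [h3]
        have h4 := LinearMap.congr_fun hw (LocalizedModule.mkLinearMap S M m)
        rw [LinearMap.comp_apply, LinearMap.id_apply] at h4
        rw [← h4]
        congr 1
        rw [LocalizedModule.mkLinearMap_apply, LocalizedModule.mkLinearMap_apply]
        exact (LocalizedModule.map_mk S u m 1).symm
      obtain ⟨c, hc⟩ := IsLocalizedModule.exists_of_eq (S := S) h2
      refine ⟨c, ?_⟩
      rw [smul_sub, sub_eq_zero]
      exact hc
    choose c hc using hkey
    obtain ⟨G, hG⟩ := Module.Finite.fg_top (R := A) (M := M)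
    let d : A := ∏ m ∈ G, (c m : A)
    have hdS : d ∈ S := prod_mem fun m _ => (c m).2
    refine ⟨d * s, mul_mem hdS hsS, d • (w₀ ∘ₗ a), ?_⟩
    have h5 : Submodule.span A (G : Set M) ≤
        LinearMap.ker ((d • (w₀ ∘ₗ a)) ∘ₗ u - (d * s) • LinearMap.id) := by
      rw [Submodule.span_le]
      intro m hm
      rw [SetLike.mem_coe, LinearMap.mem_ker, LinearMap.sub_apply, LinearMap.comp_apply,
        LinearMap.smul_apply, LinearMap.smul_apply, LinearMap.id_apply, mul_smul, ← smul_sub]
      change d • (w₀ (a (u m)) - s • m) = 0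
      have h6 : d = (∏ x ∈ G.erase m, (c x : A)) * c m := (Finset.prod_erase_mul _ _ hm).symm
      rw [h6, mul_smul, hc, smul_zero]
    rw [hG, top_le_iff, LinearMap.ker_eq_top, sub_eq_zero] at h5
    exact h5
  · rintro ⟨s, hsS, w, hw⟩
    have hu := (Module.End.isUnit_iff _).mp
      (IsLocalizedModule.map_units (LocalizedModule.mkLinearMap S M) ⟨s, hsS⟩)
    let e : LocalizedModule S M ≃ₗ[A] LocalizedModule S M := LinearEquiv.ofBijective _ hu
    refine ⟨e.symm.toLinearMap ∘ₗ (LocalizedModule.map S w).restrictScalars A, ?_⟩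
    apply LinearMap.ext
    intro x
    induction x using LocalizedModule.induction_on with
    | h m t =>
      rw [LinearMap.comp_apply, LinearMap.comp_apply, LinearMap.id_apply, LinearEquiv.coe_coe,
        LinearEquiv.symm_apply_eq]
      change LocalizedModule.map S w (LocalizedModule.map S u (LocalizedModule.mk m t)) =
        s • LocalizedModule.mk m t
      rw [LocalizedModule.map_mk, LocalizedModule.map_mk]
      have h1 : w (u m) = s • m := LinearMap.congr_fun hw m
      rw [h1, LocalizedModule.smul'_mk]

/-- The criterion for flat base change. -/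
theorem map_splitIdeal_eq_top [Module.Finite A M] [Module.Projective A N]
    (A' : Type*) [CommRing A'] [Algebra A A'] [Module.Flat A A']
    (w : A' ⊗[A] N →ₗ[A'] A' ⊗[A] M) (hw : w ∘ₗ u.baseChange A' = LinearMap.id) :
    Subsingleton (A' ⊗[A] (A ⧸ splitIdeal u)) := by
  classical
  obtain ⟨ι, _, a, b, hab⟩ := exists_factor u
  obtain ⟨k, m, hm⟩ := Module.Finite.exists_fin (R := A) (M := M)
  let c : Fin k → ι → A := fun i => a (u (m i))
  let σ : Fin k → (M →ₗ[A] (Fin k → M)) := fun i => LinearMap.single A (fun _ => M) i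
  let T : (ι → M) →ₗ[A] (Fin k → M) := LinearMap.pi fun i => ∑ j, c i j • LinearMap.proj j
  let τ : ι → (M →ₗ[A] (ι → M)) := fun j => LinearMap.single A (fun _ => M) j
  let q := (LinearMap.range T).mkQ
  -- the elements `X_j`
  let X : ι → A' ⊗[A] M := fun j => w (b.baseChange A' (1 ⊗ₜ Pi.single j 1))
  have hX : ∀ i, (1 : A') ⊗ₜ[A] m i = ∑ j, c i j • X j := by
    intro i
    have h1 := LinearMap.congr_fun hw ((1 : A') ⊗ₜ[A] m i)
    rw [LinearMap.comp_apply, LinearMap.baseChange_tmul, LinearMap.id_apply] at h1
    have h2 : u (m i) = b (a (u (m i))) := (LinearMap.congr_fun hab (m i)).symm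
    have h3 : a (u (m i)) = ∑ j, c i j • (Pi.single j 1 : ι → A) := by
      ext l
      simp [c, Finset.sum_apply, Pi.single_apply]
    rw [← h1, h2, h3, map_sum, TensorProduct.tmul_sum, map_sum]
    refine Finset.sum_congr rfl fun j _ => ?_
    rw [map_smul, TensorProduct.tmul_smul, ← algebraMap_smul A' (c i j), map_smul, algebraMap_smul]
    rfl
  have hστ : ∀ j, ∑ i, c i j • σ i = T ∘ₗ τ j := by
    intro j
    ext x l
    simp [σ, τ, T, Finset.sum_apply, Pi.single_apply]
  have he : (m : Fin k → M) = ∑ i, σ i (m i) := by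
    ext l
    simp [σ, Finset.sum_apply, Pi.single_apply]
  have hzero : q.lTensor A' ((1 : A') ⊗ₜ[A] (m : Fin k → M)) = 0 := by
    have h1 : (1 : A') ⊗ₜ[A] (m : Fin k → M) = ∑ j, (T ∘ₗ τ j).lTensor A' (X j) := by
      conv_lhs => rw [he, TensorProduct.tmul_sum]
      have h2 : ∀ i, (1 : A') ⊗ₜ[A] σ i (m i) = ∑ j, c i j • (σ i).lTensor A' (X j) := by
        intro i
        rw [← LinearMap.lTensor_tmul, hX, map_sum]
        simp only [map_smul]
      simp only [h2]
      rw [Finset.sum_comm]
      refine Finset.sum_congr rfl fun j _ => ?_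
      rw [← hστ]
      have h4 : ∀ (f : Fin k → (M →ₗ[A] (Fin k → M))), (∑ i, f i).lTensor A' = ∑ i, (f i).lTensor A' :=
        fun f => map_sum (LinearMap.lTensorHom A') f Finset.univ
      rw [h4, LinearMap.sum_apply]
      refine Finset.sum_congr rfl fun i _ => ?_
      rw [LinearMap.lTensor_smul, LinearMap.smul_apply]
    rw [h1, map_sum]
    refine Finset.sum_eq_zero fun j _ => ?_
    rw [← LinearMap.comp_apply, ← LinearMap.lTensor_comp, ← LinearMap.comp_assoc]
    have h5 : q ∘ₗ T = 0 := LinearMap.range_mkQ_comp T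
    rw [h5, LinearMap.zero_comp, LinearMap.lTensor_zero, LinearMap.zero_apply]
  -- the injection of `A / splitIdeal` into the cokernel
  let r : A →ₗ[A] ((Fin k → M) ⧸ LinearMap.range T) := LinearMap.toSpanSingleton A _ (q m)
  have hr : LinearMap.ker r ≤ splitIdeal u := by
    intro s hs
    rw [LinearMap.mem_ker, LinearMap.toSpanSingleton_apply, ← map_smul, Submodule.mkQ_apply,
      Submodule.Quotient.mk_eq_zero] at hs
    obtain ⟨x, hx⟩ := hs
    rw [mem_splitIdeal]
    refine ⟨(Fintype.linearCombination A x) ∘ₗ a, ?_⟩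
    have h6 : ⊤ ≤ LinearMap.ker (((Fintype.linearCombination A x) ∘ₗ a) ∘ₗ u - s • LinearMap.id) := by
      rw [← hm, Submodule.span_le]
      rintro _ ⟨i, rfl⟩
      rw [SetLike.mem_coe, LinearMap.mem_ker, LinearMap.sub_apply, sub_eq_zero]
      have h7 := congrFun hx i
      simp only [T, LinearMap.pi_apply, LinearMap.sum_apply, LinearMap.smul_apply,
        LinearMap.proj_apply, Pi.smul_apply] at h7
      rw [LinearMap.comp_apply, LinearMap.comp_apply, Fintype.linearCombination_apply,
        LinearMap.smul_apply, LinearMap.id_apply]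
      exact h7
    rw [top_le_iff, LinearMap.ker_eq_top, sub_eq_zero] at h6
    exact h6
  let r' : (A ⧸ LinearMap.ker r) →ₗ[A] ((Fin k → M) ⧸ LinearMap.range T) :=
    (LinearMap.ker r).liftQ r le_rfl
  have hr' : Function.Injective r' := by
    rw [← LinearMap.ker_eq_bot]
    exact Submodule.ker_liftQ_eq_bot _ _ _ le_rfl
  have hinj : Function.Injective (r'.lTensor A') :=
    Module.Flat.lTensor_preserves_injective_linearMap r' hr'
  have h8 : (1 : A') ⊗ₜ[A] ((LinearMap.ker r).mkQ 1) = 0 := by
    apply hinj
    rw [LinearMap.lTensor_tmul, map_zero]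
    have h9 : r' ((LinearMap.ker r).mkQ 1) = q m := by
      change r 1 = _
      rw [LinearMap.toSpanSingleton_apply, one_smul]
    rw [h9, ← LinearMap.lTensor_tmul]
    exact hzero
  have h10 : (1 : A') ⊗ₜ[A] (Ideal.Quotient.mk (splitIdeal u) 1) = 0 := by
    have h11 := congrArg ((Submodule.mapQ (LinearMap.ker r) (splitIdeal u) LinearMap.id
      (by rw [Submodule.comap_id]; exact hr)).lTensor A') h8
    rw [map_zero, LinearMap.lTensor_tmul] at h11
    exact h11
  refine subsingleton_of_forall_eq 0 fun z => ?_
  induction z using TensorProduct.induction_on with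
  | zero => rfl
  | add x y hx hy => rw [hx, hy, add_zero]
  | tmul x y =>
    obtain ⟨y, rfl⟩ := Ideal.Quotient.mk_surjective y
    have h12 : x ⊗ₜ[A] (Ideal.Quotient.mk (splitIdeal u) y) =
        (x * algebraMap A A' y) • ((1 : A') ⊗ₜ[A] (Ideal.Quotient.mk (splitIdeal u) 1)) := by
      rw [TensorProduct.smul_tmul', smul_eq_mul, mul_one, mul_comm, ← Algebra.smul_def,
        TensorProduct.smul_tmul]
      congr 1
      rw [Algebra.smul_def, Ideal.Quotient.algebraMap_eq, ← map_mul, mul_one]
    rw [h12, h10, smul_zero]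

end Groth.Agent.Ega41.K98.SplitLoc
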